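import Mathlib

/-!
# A function with non-vanishing differential is smooth
-/

set_option autoImplicit false
set_option linter.style.haveILetI false

universe u

open TensorProduct IsLocalRing

namespace Groth.Agent.H19.MovU.Alg

variable (k : Type u) [Field k] (S : Type u) [CommRing S] [IsLocalRing S] [Algebra k S]
  [Algebra.FormallySmooth k S] [Algebra.EssFiniteType k S]

theorem exists_functional {a : S}
    (h : ((1 : ResidueField S) ⊗ₜ[S] KaehlerDifferential.D k S a : ResidueField S ⊗[S] Ω[S⁄k]) ≠ 0) :
    ∃ l : Ω[S⁄k] →ₗ[S] S, l (KaehlerDifferential.D k S a) = 1 := by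
  haveI : Module.FinitePresentation S Ω[S⁄k] := Module.finitePresentation_of_projective S Ω[S⁄k]
  haveI : Module.Free S Ω[S⁄k] := Module.free_of_flat_of_isLocalRing
  let b := Module.Free.chooseBasis S Ω[S⁄k]
  obtain ⟨i, hi⟩ : ∃ i, IsUnit (b.repr (KaehlerDifferential.D k S a) i) := by
    by_contra hc
    push Not at hc
    apply h
    rw [← b.sum_repr (KaehlerDifferential.D k S a), TensorProduct.tmul_sum]
    refine Finset.sum_eq_zero fun i _ => ?_
    rw [← TensorProduct.smul_tmul]
    have : (b.repr (KaehlerDifferential.D k S a) i) • (1 : ResidueField S) = 0 := by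
      rw [Algebra.smul_def, mul_one]
      exact (IsLocalRing.residue_eq_zero_iff _).2 ((mem_maximalIdeal _).2 (hc i))
    rw [this, TensorProduct.zero_tmul]
  obtain ⟨w, hw⟩ := hi
  refine ⟨(↑w⁻¹ : S) • b.coord i, ?_⟩
  rw [LinearMap.smul_apply, Module.Basis.coord_apply, ← hw, smul_eq_mul, Units.inv_mul]

/-- A function with non-vanishing differential on a smooth local algebra is formally smooth. -/
theorem formallySmooth_polynomial [Algebra (Polynomial k) S] [IsScalarTower k (Polynomial k) S]
    (h : ((1 : ResidueField S) ⊗ₜ[S] KaehlerDifferential.D k S (algebraMap (Polynomial k) S Polynomial.X) :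
      ResidueField S ⊗[S] Ω[S⁄k]) ≠ 0) : Algebra.FormallySmooth (Polynomial k) S := by
  obtain ⟨l, hl⟩ := exists_functional k S h
  set da := KaehlerDifferential.D k S (algebraMap (Polynomial k) S Polynomial.X) with hda
  let φ := KaehlerDifferential.mapBaseChange k (Polynomial k) S
  have hgen : ∀ t : S ⊗[Polynomial k] Ω[Polynomial k⁄k], ∃ s : S,
      t = s ⊗ₜ KaehlerDifferential.D k (Polynomial k) Polynomial.X := by
    intro t
    induction t using TensorProduct.induction_on with
    | zero => exact ⟨0, (TensorProduct.zero_tmul _ _).symm⟩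
    | add x y hx hy =>
      obtain ⟨s, rfl⟩ := hx
      obtain ⟨s', rfl⟩ := hy
      exact ⟨s + s', (TensorProduct.add_tmul _ _ _).symm⟩
    | tmul s ω =>
      refine ⟨(KaehlerDifferential.polynomialEquiv k ω) • s, ?_⟩
      rw [TensorProduct.smul_tmul, ← KaehlerDifferential.polynomialEquiv_symm, LinearEquiv.symm_apply_apply]
  have hφ : ∀ s : S, φ (s ⊗ₜ KaehlerDifferential.D k (Polynomial k) Polynomial.X) = s • da := fun s => by
    simp [φ, hda, KaehlerDifferential.mapBaseChange_tmul]
  refine ⟨?_, ?_⟩
  · let π := KaehlerDifferential.map k (Polynomial k) S S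
    let g : Ω[S⁄k] →ₗ[S] Ω[S⁄k] := LinearMap.id - l.smulRight da
    have hker : LinearMap.ker π ≤ LinearMap.ker g := by
      intro ω hω
      obtain ⟨t, rfl⟩ := (KaehlerDifferential.exact_mapBaseChange_map k (Polynomial k) S ω).1 hω
      obtain ⟨s, rfl⟩ := hgen t
      rw [LinearMap.mem_ker, show KaehlerDifferential.mapBaseChange k (Polynomial k) S
        (s ⊗ₜ KaehlerDifferential.D k (Polynomial k) Polynomial.X) = s • da from hφ s, map_smul]
      simp [g, hl]
    have hπs : Function.Surjective π := KaehlerDifferential.map_surjective k (Polynomial k) S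
    let sec : Ω[S⁄Polynomial k] →ₗ[S] Ω[S⁄k] :=
      (LinearMap.ker π).liftQ g hker ∘ₗ (π.quotKerEquivOfSurjective hπs).symm.toLinearMap
    refine Module.Projective.of_split sec π (LinearMap.ext fun x => ?_)
    obtain ⟨ω, rfl⟩ := hπs x
    have h1 : π da = 0 := (KaehlerDifferential.exact_mapBaseChange_map k (Polynomial k) S da).2 ⟨_, (hφ 1).trans (one_smul _ _)⟩
    have h2 : (π.quotKerEquivOfSurjective hπs).symm (π ω) = Submodule.Quotient.mk ω := by
      rw [LinearEquiv.symm_apply_eq]; rfl
    simp [sec, h2, g, h1]
  · refine subsingleton_of_forall_eq 0 fun x => ?_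
    have hδ : Algebra.H1Cotangent.δ k (Polynomial k) S x = 0 := by
      have h0 : φ (Algebra.H1Cotangent.δ k (Polynomial k) S x) = 0 :=
        (Algebra.H1Cotangent.exact_δ_mapBaseChange k (Polynomial k) S).apply_apply_eq_zero x
      obtain ⟨s, hs⟩ := hgen (Algebra.H1Cotangent.δ k (Polynomial k) S x)
      rw [hs, hφ] at h0
      have : s = 0 := by simpa [hl] using congrArg l h0
      rw [hs, this, TensorProduct.zero_tmul]
    obtain ⟨y, rfl⟩ := (Algebra.H1Cotangent.exact_map_δ k (Polynomial k) S x).1 hδ
    rw [Subsingleton.elim y 0, map_zero]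

/-- If all differentials vanish at a smooth point, the residue field is finite over the base. -/
theorem finite_residueField (h : ∀ s : S, ((1 : ResidueField S) ⊗ₜ[S] KaehlerDifferential.D k S s :
    ResidueField S ⊗[S] Ω[S⁄k]) = 0) : Module.Finite k (ResidueField S) := by
  have h0 : Subsingleton (ResidueField S ⊗[S] Ω[S⁄k]) := by
    refine subsingleton_of_forall_eq 0 fun t => ?_
    induction t using TensorProduct.induction_on with
    | zero => rfl
    | add x y hx hy => rw [hx, hy, add_zero]
    | tmul c ω =>
      have hω : ω ∈ Submodule.span S (Set.range (KaehlerDifferential.D k S)) := by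
        rw [KaehlerDifferential.span_range_derivation]; trivial
      induction hω using Submodule.span_induction generalizing c with
      | mem x hx =>
        obtain ⟨s, rfl⟩ := hx
        rw [show c = c • (1 : ResidueField S) by simp, ← TensorProduct.smul_tmul', h, smul_zero]
      | zero => exact TensorProduct.tmul_zero _ _
      | add x y _ _ hx hy => rw [TensorProduct.tmul_add, hx, hy, add_zero]
      | smul s x _ hx => rw [TensorProduct.tmul_smul, hx, smul_zero]
  haveI : Subsingleton Ω[S⁄k] := IsLocalRing.subsingleton_tensorProduct.1 h0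
  haveI : Algebra.FormallyUnramified k S := (Algebra.formallyUnramified_iff k S).2 ‹_›
  haveI : Algebra.FormallyUnramified k (ResidueField S) :=
    Algebra.FormallyUnramified.of_surjective (IsScalarTower.toAlgHom k S (ResidueField S)) residue_surjective
  haveI : Algebra.EssFiniteType S (ResidueField S) := inferInstanceAs (Algebra.EssFiniteType S (S ⧸ maximalIdeal S))
  haveI : Algebra.EssFiniteType k (ResidueField S) := Algebra.EssFiniteType.comp k S (ResidueField S)
  exact Algebra.FormallyUnramified.finite_of_free k (ResidueField S)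

end Groth.Agent.H19.MovU.Alg
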