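import Mathlib
import Groth.Agent.H75.Birat.FiniteNhdRing

/-!
# The critical locus of a general linear combination is finite
-/

set_option autoImplicit false
set_option linter.style.haveILetI false

universe u

open TensorProduct

namespace Groth.Agent.H19.MovU.Crit

variable {k : Type u} [Field k] {T : Type u} [CommRing T] [Algebra k T] [Algebra.FiniteType k T]
  [Module.Projective T Ω[T⁄k]] {n : ℕ} (a : Fin n → T)

theorem trdeg_le (ha : Submodule.span T (Set.range fun i => KaehlerDifferential.D k T (a i)) = ⊤)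
    {L : Type u} [Field L] [Algebra k L] (τ : T →ₐ[k] L) (γ : Fin n → L)
    (hrel : ∀ l : Ω[T⁄k] →ₗ[T] T, ∑ j, γ j * τ (l (KaehlerDifferential.D k T (a j))) = 0)
    (hgen : IntermediateField.adjoin k (Set.range τ ∪ Set.range γ) = ⊤) :
    Algebra.trdeg k L ≤ n := by
  classical
  obtain ⟨G, hG⟩ := (inferInstance : Algebra.FiniteType k T).out
  let F : IntermediateField k L := IntermediateField.adjoin k (τ '' (G : Set T))
  have hτF : ∀ t, τ t ∈ F := by
    intro t
    have ht : t ∈ Algebra.adjoin k (G : Set T) := by rw [hG]; trivial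
    induction ht using Algebra.adjoin_induction with
    | mem x hx => exact IntermediateField.subset_adjoin k _ ⟨x, hx, rfl⟩
    | algebraMap c => rw [AlgHom.commutes]; exact F.algebraMap_mem c
    | add x y _ _ hx hy => rw [map_add]; exact add_mem hx hy
    | mul x y _ _ hx hy => rw [map_mul]; exact mul_mem hx hy
  haveI : Algebra.EssFiniteType k F :=
    IntermediateField.essFiniteType_iff.2 (IntermediateField.fg_adjoin_of_finite (G.finite_toSet.image _))
  let σ : T →ₐ[k] F := τ.codRestrict F.toSubalgebra hτF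
  letI : Algebra T F := σ.toRingHom.toAlgebra
  haveI : IsScalarTower k T F := IsScalarTower.of_algebraMap_eq fun c => (σ.commutes c).symm
  -- a dual basis
  obtain ⟨m, π, hπ⟩ := Module.Finite.exists_fin' T Ω[T⁄k]
  obtain ⟨sec, hsec⟩ := Module.projective_lifting_property π LinearMap.id hπ
  let e : Fin m → Ω[T⁄k] := fun s => π (Pi.single s 1)
  have hω : ∀ ω, ω = ∑ s, (sec ω s) • e s := by
    intro ω
    have h1 : π (sec ω) = ω := LinearMap.congr_fun hsec ω
    conv_lhs => rw [← h1, pi_eq_sum_univ' (sec ω)]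
    simp [e, map_sum]
  let c : Fin n → (Fin m → F) := fun j s => σ (sec (KaehlerDifferential.D k T (a j)) s)
  obtain ⟨κ, i₀, hi₀, hspan, hli⟩ := exists_linearIndependent' F c
  haveI : Fintype κ := Fintype.ofInjective i₀ hi₀
  obtain ⟨g, hg⟩ := LinearMap.exists_leftInverse_of_injective
    (Fintype.linearCombination F (c ∘ i₀)) (LinearMap.ker_eq_bot.2 (linearIndependent_iff_injective_fintypeLinearCombination.1 hli))
  have hu : ∀ j, ∑ i, g (c j) i • c (i₀ i) = c j := by
    intro j
    have hj : c j ∈ Submodule.span F (Set.range (c ∘ i₀)) := by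
      rw [hspan]; exact Submodule.subset_span ⟨j, rfl⟩
    obtain ⟨v, hv⟩ := (Submodule.mem_span_range_iff_exists_fun F).1 hj
    have hv' : Fintype.linearCombination F (c ∘ i₀) v = c j := by
      rw [Fintype.linearCombination_apply]; exact hv
    have hgv : g (c j) = v := by rw [← hv']; exact LinearMap.congr_fun hg v
    rw [hgv]; exact hv
  have hdiag : ∀ i i', g (c (i₀ i)) i' = if i' = i then 1 else 0 := by
    intro i i'
    have h2 : Fintype.linearCombination F (c ∘ i₀) (Pi.single i 1) = c (i₀ i) := by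
      simp [Fintype.linearCombination_apply, Pi.single_apply]
    rw [← h2]
    exact (congrFun (LinearMap.congr_fun hg (Pi.single i 1)) i').trans (by simp [Pi.single_apply])
  have hrel' : ∀ i, ∑ j, γ j * (g (c j) i : L) = 0 := by
    intro i
    have e1 : ∀ v : Fin m → F, g v i = ∑ s, v s * g (Pi.single s 1) i := by
      intro v
      conv_lhs => rw [pi_eq_sum_univ' v]
      simp [map_sum]
    have e2 : ∀ j, ((g (c j) i : F) : L) =
        ∑ s, τ (sec (KaehlerDifferential.D k T (a j)) s) * (g (Pi.single s 1) i : L) := by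
      intro j
      rw [e1, AddSubmonoidClass.coe_finsetSum]
      rfl
    simp only [e2, Finset.mul_sum]
    rw [Finset.sum_comm]
    refine Finset.sum_eq_zero fun s _ => ?_
    have h3 := hrel ((LinearMap.proj s) ∘ₗ sec)
    simp only [← mul_assoc, ← Finset.sum_mul]
    simp only [LinearMap.coe_comp, LinearMap.coe_proj, Function.comp_apply, Function.eval] at h3
    rw [h3, zero_mul]
  let tt : Fin n → L := fun j => if j ∈ Set.range i₀ then τ (a j) else γ j
  let E : IntermediateField k L := IntermediateField.adjoin k (Set.range tt)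
  let E₀ : IntermediateField k F := IntermediateField.adjoin k (Set.range fun i => σ (a (i₀ i)))
  haveI : Algebra.EssFiniteType E₀ F := Algebra.EssFiniteType.of_comp k E₀ F
  haveI : SMulCommClass E₀ T F := ⟨fun x y z => by simp only [Algebra.smul_def]; ring⟩
  let μ := KaehlerDifferential.map k E₀ T F
  have hμD : ∀ t, μ (KaehlerDifferential.D k T t) = KaehlerDifferential.D E₀ F (σ t) := fun t =>
    KaehlerDifferential.map_D k E₀ T F t
  have hDa : ∀ j, KaehlerDifferential.D E₀ F (σ (a j)) = 0 := by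
    intro j
    have e1 : ∀ j, μ (KaehlerDifferential.D k T (a j)) = ∑ s, c j s • μ (e s) := by
      intro j
      conv_lhs => rw [hω (KaehlerDifferential.D k T (a j))]
      rw [map_sum]
      exact Finset.sum_congr rfl fun s _ => (map_smul μ _ _).trans (algebraMap_smul F _ _).symm
    have h0 : ∀ i, ∑ s, c (i₀ i) s • μ (e s) = 0 := by
      intro i
      rw [← e1, hμD]
      exact (KaehlerDifferential.D E₀ F).map_algebraMap
        (⟨_, IntermediateField.subset_adjoin k _ ⟨i, rfl⟩⟩ : E₀)
    rw [← hμD, e1]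
    conv_lhs =>
      enter [2, s]
      rw [show c j s = ∑ i, g (c j) i * c (i₀ i) s by
        conv_lhs => rw [← hu j]
        simp [Finset.sum_apply], Finset.sum_smul]
    rw [Finset.sum_comm]
    refine Finset.sum_eq_zero fun i _ => ?_
    simp only [mul_smul, ← Finset.smul_sum, h0, smul_zero]
  have hDT : ∀ t, KaehlerDifferential.D E₀ F (σ t) = 0 := by
    intro t
    have hle : (⊤ : Submodule T Ω[T⁄k]) ≤ LinearMap.ker μ := by
      rw [← ha, Submodule.span_le]
      rintro _ ⟨j, rfl⟩
      exact (hμD (a j)).trans (hDa j)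
    exact (hμD t).symm.trans (hle trivial)
  have hDF : ∀ x : F, KaehlerDifferential.D E₀ F x = 0 := by
    rintro ⟨x, hx⟩
    induction hx using IntermediateField.adjoin_induction with
    | mem y hy => obtain ⟨t, _, rfl⟩ := hy; exact hDT t
    | algebraMap c =>
      exact (KaehlerDifferential.D E₀ F).map_algebraMap (algebraMap k E₀ c)
    | add y z hy hz h1 h2 =>
      rw [show (⟨y + z, add_mem hy hz⟩ : F) = ⟨y, hy⟩ + ⟨z, hz⟩ from rfl, map_add, h1, h2, add_zero]
    | inv y hy h1 =>
      rw [show (⟨y⁻¹, inv_mem hy⟩ : F) = (⟨y, hy⟩ : F)⁻¹ from rfl, Derivation.leibniz_inv, h1, smul_zero]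
    | mul y z hy hz h1 h2 =>
      rw [show (⟨y * z, mul_mem hy hz⟩ : F) = ⟨y, hy⟩ * ⟨z, hz⟩ from rfl, Derivation.leibniz, h1, h2,
        smul_zero, smul_zero, add_zero]
  haveI : Subsingleton Ω[F⁄E₀] := by
    refine subsingleton_of_forall_eq 0 fun ω => ?_
    have hω' : ω ∈ Submodule.span F (Set.range (KaehlerDifferential.D E₀ F)) := by
      rw [KaehlerDifferential.span_range_derivation]; trivial
    induction hω' using Submodule.span_induction with
    | mem x hx => obtain ⟨y, rfl⟩ := hx; exact hDF y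
    | zero => rfl
    | add x y _ _ hx hy => rw [hx, hy, add_zero]
    | smul s x _ hx => rw [hx, smul_zero]
  haveI : Algebra.FormallyUnramified E₀ F := (Algebra.formallyUnramified_iff E₀ F).2 ‹_›
  haveI : Module.Finite E₀ F := Algebra.FormallyUnramified.finite_of_free E₀ F
  have hE₀ : ∀ x : E₀, ((x : F) : L) ∈ E := by
    have : E₀.map F.val ≤ E := by
      rw [IntermediateField.adjoin_map, IntermediateField.adjoin_le_iff]
      rintro _ ⟨_, ⟨i, rfl⟩, rfl⟩
      exact IntermediateField.subset_adjoin k _ ⟨i₀ i, if_pos ⟨i, rfl⟩⟩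
    exact fun x => this ⟨_, x.2, rfl⟩
  let φ : E₀ →+* E := (F.val.toRingHom.comp (algebraMap E₀ F)).codRestrict E hE₀
  have hFint : ∀ x : F, IsIntegral E (x : L) := fun x =>
    IsIntegral.map_of_comp_eq φ F.val.toRingHom rfl (IsIntegral.of_finite E₀ x)
  let Cl : IntermediateField E L := algebraicClosure E L
  have hγ : ∀ j, γ j ∈ Cl := by
    have hout : ∀ j, j ∉ Set.range i₀ → γ j ∈ Cl := fun j hj => by
      have : γ j ∈ E := IntermediateField.subset_adjoin k _ ⟨j, if_neg hj⟩
      exact Cl.algebraMap_mem ⟨γ j, this⟩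
    intro j
    by_cases hj : j ∈ Set.range i₀
    · obtain ⟨i, rfl⟩ := hj
      have h1 := hrel' i
      rw [← Finset.add_sum_erase _ _ (Finset.mem_univ (i₀ i)), hdiag, if_pos rfl, OneMemClass.coe_one, mul_one] at h1
      rw [show γ (i₀ i) = -∑ j ∈ Finset.univ.erase (i₀ i), γ j * (g (c j) i : L) by
        linear_combination h1]
      refine neg_mem (sum_mem fun j hj => ?_)
      by_cases hj' : j ∈ Set.range i₀
      · obtain ⟨i', rfl⟩ := hj'
        rw [hdiag, if_neg fun h => (Finset.mem_erase.1 hj).1 (by rw [h])]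
        simp
      · exact mul_mem (hout j hj') (mem_algebraicClosure_iff.2 (hFint _).isAlgebraic)
    · exact hout j hj
  have htop : Cl.restrictScalars k = ⊤ := by
    rw [← top_le_iff, ← hgen, IntermediateField.adjoin_le_iff]
    rintro _ (⟨t, rfl⟩ | ⟨j, rfl⟩)
    · exact mem_algebraicClosure_iff.2 (hFint (σ t)).isAlgebraic
    · exact hγ j
  haveI : Algebra.IsAlgebraic E L := ⟨fun x => mem_algebraicClosure_iff.1 (show x ∈ Cl.restrictScalars k from htop ▸ trivial)⟩
  haveI : Algebra.IsAlgebraic (Algebra.adjoin k (Set.range tt)) L := IntermediateField.isAlgebraic_adjoin_iff_top.1 ‹_›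
  refine (Algebra.IsAlgebraic.trdeg_le_cardinalMk k (Set.range tt)).trans ?_
  have h5 := Cardinal.mk_range_le_lift (f := tt)
  simpa using h5

open MvPolynomial in
theorem isAlgebraic_of_relations (ha : Submodule.span T (Set.range fun i => KaehlerDifferential.D k T (a i)) = ⊤)
    {D : Type u} [CommRing D] [IsDomain D] [Algebra k D] [Algebra (MvPolynomial (Fin n) k) D]
    [IsScalarTower k (MvPolynomial (Fin n) k) D] (ρ : T →ₐ[k] D)
    (hinj : Function.Injective (algebraMap (MvPolynomial (Fin n) k) D))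
    (hrel : ∀ l : Ω[T⁄k] →ₗ[T] T,
      ∑ j, algebraMap (MvPolynomial (Fin n) k) D (X j) * ρ (l (KaehlerDifferential.D k T (a j))) = 0)
    (hgen : Algebra.adjoin k (Set.range ρ ∪ Set.range fun j => algebraMap (MvPolynomial (Fin n) k) D (X j)) = ⊤)
    (x : D) : IsAlgebraic (MvPolynomial (Fin n) k) x := by
  let ι : D →ₐ[k] FractionRing D := IsScalarTower.toAlgHom k D (FractionRing D)
  let χ : MvPolynomial (Fin n) k →ₐ[k] FractionRing D := ι.comp (IsScalarTower.toAlgHom k _ D)
  let γ : Fin n → FractionRing D := fun j => χ (X j)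
  have hχ : aeval γ = χ := algHom_ext fun j => aeval_X _ j
  have hχi : Function.Injective χ := (IsFractionRing.injective D (FractionRing D)).comp hinj
  have hrel' : ∀ l : Ω[T⁄k] →ₗ[T] T, ∑ j, γ j * (ι.comp ρ) (l (KaehlerDifferential.D k T (a j))) = 0 := by
    intro l
    have h1 := congrArg ι (hrel l)
    simp only [map_sum, map_mul, map_zero] at h1
    exact h1
  have hgen' : IntermediateField.adjoin k (Set.range (ι.comp ρ) ∪ Set.range γ) = ⊤ := by
    rw [← top_le_iff]
    rintro y -
    have hmem : ∀ b : D, ι b ∈ IntermediateField.adjoin k (Set.range (ι.comp ρ) ∪ Set.range γ) := by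
      intro b
      have hb : b ∈ Algebra.adjoin k (Set.range ρ ∪ Set.range fun j => algebraMap (MvPolynomial (Fin n) k) D (X j)) := by
        rw [hgen]; trivial
      induction hb using Algebra.adjoin_induction with
      | mem z hz =>
        rcases hz with ⟨t, rfl⟩ | ⟨j, rfl⟩
        · exact IntermediateField.subset_adjoin k _ (Or.inl ⟨t, rfl⟩)
        · exact IntermediateField.subset_adjoin k _ (Or.inr ⟨j, rfl⟩)
      | algebraMap c => rw [AlgHom.commutes]; exact IntermediateField.algebraMap_mem _ c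
      | add u v _ _ hu hv => rw [map_add]; exact add_mem hu hv
      | mul u v _ _ hu hv => rw [map_mul]; exact mul_mem hu hv
    obtain ⟨p, q, -, rfl⟩ := IsFractionRing.div_surjective (A := D) y
    exact div_mem (hmem p) (hmem q)
  have hind : AlgebraicIndependent k γ := by
    show Function.Injective (aeval γ)
    rw [hχ]; exact hχi
  have htb : IsTranscendenceBasis k γ :=
    hind.isTranscendenceBasis_of_lift_trdeg_le_of_finite (by
      simpa using trdeg_le a ha (ι.comp ρ) γ hrel' hgen')
  haveI := htb.isAlgebraic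
  refine IsAlgebraic.of_ringHom_of_comp_eq (S := Algebra.adjoin k (Set.range γ))
    (f := (χ.codRestrict (Algebra.adjoin k (Set.range γ))
      fun p => (Algebra.adjoin_range_eq_range_aeval k γ).symm ▸ hχ.symm ▸ ⟨p, rfl⟩).toRingHom)
    (g := algebraMap D (FractionRing D)) (Algebra.IsAlgebraic.isAlgebraic _) ?_ (IsFractionRing.injective D (FractionRing D)) (RingHom.ext fun _ => rfl)
  rintro ⟨y, hy⟩
  rw [Algebra.adjoin_range_eq_range_aeval, hχ] at hy
  obtain ⟨p, rfl⟩ := hy
  exact ⟨p, rfl⟩

open MvPolynomial in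
/-- For a general `c`, only finitely many primes, all maximal, are critical for `∑ cᵢ aᵢ`. -/
theorem exists_general (ha : Submodule.span T (Set.range fun i => KaehlerDifferential.D k T (a i)) = ⊤) :
    ∃ P : MvPolynomial (Fin n) k, P ≠ 0 ∧ ∀ c : Fin n → k, eval c P ≠ 0 →
      {q : PrimeSpectrum T | ∀ l : Ω[T⁄k] →ₗ[T] T,
        l (KaehlerDifferential.D k T (∑ i, c i • a i)) ∈ q.asIdeal}.Finite ∧
      ∀ q : PrimeSpectrum T, (∀ l : Ω[T⁄k] →ₗ[T] T,
        l (KaehlerDifferential.D k T (∑ i, c i • a i)) ∈ q.asIdeal) → q.asIdeal.IsMaximal := by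
  classical
  let gl : (Ω[T⁄k] →ₗ[T] T) → MvPolynomial (Fin n) T := fun l =>
    ∑ i, X i * C (l (KaehlerDifferential.D k T (a i)))
  let J : Ideal (MvPolynomial (Fin n) T) := Ideal.span (Set.range gl)
  let B := MvPolynomial (Fin n) T ⧸ J
  let ψ : MvPolynomial (Fin n) k →+* B := (Ideal.Quotient.mk J).comp (map (algebraMap k T))
  letI : Algebra (MvPolynomial (Fin n) k) B := ψ.toAlgebra
  haveI : IsScalarTower k (MvPolynomial (Fin n) k) B := IsScalarTower.of_algebraMap_eq fun c => by
    show algebraMap k B c = Ideal.Quotient.mk J (map (algebraMap k T) (C c))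
    rw [map_C]; rfl
  haveI : Algebra.FiniteType k (MvPolynomial (Fin n) T) := Algebra.FiniteType.trans (inferInstance : Algebra.FiniteType k T) inferInstance
  haveI : Algebra.FiniteType k B := Algebra.FiniteType.of_surjective (Ideal.Quotient.mkₐ k J) Ideal.Quotient.mk_surjective
  haveI : Algebra.FiniteType (MvPolynomial (Fin n) k) B := Algebra.FiniteType.of_restrictScalars_finiteType k _ _
  haveI : IsNoetherianRing B := Algebra.FiniteType.isNoetherianRing k B
  have halg : ∀ Q : Ideal B, Q.IsPrime → Q.comap ψ = ⊥ → ∀ x : B ⧸ Q, IsAlgebraic (MvPolynomial (Fin n) k) x := by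
    intro Q _ hQ
    refine isAlgebraic_of_relations (D := B ⧸ Q) a ha
      ((Ideal.Quotient.mkₐ k Q).comp ((Ideal.Quotient.mkₐ k J).comp (IsScalarTower.toAlgHom k T (MvPolynomial (Fin n) T)))) ?_ (fun l => ?_) ?_
    · rw [injective_iff_map_eq_zero]
      intro p hp
      have hp' : Ideal.Quotient.mk Q (ψ p) = 0 := hp
      have : p ∈ Q.comap ψ := Ideal.mem_comap.2 (Ideal.Quotient.eq_zero_iff_mem.1 hp')
      rwa [hQ] at this
    · have h0 : Ideal.Quotient.mk J (gl l) = 0 := Ideal.Quotient.eq_zero_iff_mem.2 (Ideal.subset_span ⟨l, rfl⟩)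
      have h1 := congrArg (Ideal.Quotient.mk Q) h0
      simp only [gl, map_sum, map_mul, map_zero] at h1
      refine Eq.trans (Finset.sum_congr rfl fun j _ => ?_) h1
      show Ideal.Quotient.mk Q (ψ (X j)) * _ = _
      simp only [ψ, RingHom.comp_apply, map_X]
      rfl
    · rw [eq_top_iff]
      rintro b -
      obtain ⟨b, rfl⟩ := Ideal.Quotient.mk_surjective b
      obtain ⟨p, rfl⟩ := Ideal.Quotient.mk_surjective b
      induction p using MvPolynomial.induction_on with
      | C t => exact Algebra.subset_adjoin (Or.inl ⟨t, rfl⟩)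
      | add p q hp hq => simp only [map_add]; exact add_mem hp hq
      | mul_X p j hp =>
        simp only [map_mul]
        refine mul_mem hp (Algebra.subset_adjoin (Or.inr ⟨j, ?_⟩))
        show Ideal.Quotient.mk Q (ψ (X j)) = _
        simp only [ψ, RingHom.comp_apply, map_X]
  have hfib : (PrimeSpectrum.comap (algebraMap (MvPolynomial (Fin n) k) B) ⁻¹' {⟨⊥, Ideal.isPrime_bot⟩}).Finite := by
    refine ((minimalPrimes.finite_of_isNoetherianRing B).preimage
      (f := PrimeSpectrum.asIdeal) (fun x _ y _ h => PrimeSpectrum.ext h)).subset fun Q hQ => ?_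
    have hQ' : Q.asIdeal.comap ψ = ⊥ := congrArg PrimeSpectrum.asIdeal hQ
    obtain ⟨q, hq, hqQ⟩ := Ideal.exists_minimalPrimes_le (show (⊥ : Ideal B) ≤ Q.asIdeal from bot_le)
    haveI := hq.1.1
    suffices h : q = Q.asIdeal by show Q.asIdeal ∈ minimalPrimes B; rw [← h]; exact hq
    refine hqQ.antisymm fun x hx => by_contra fun hxq => ?_
    have hq0 : q.comap ψ = ⊥ := le_bot_iff.1 ((Ideal.comap_mono hqQ).trans hQ'.le)
    have hx0 : Ideal.Quotient.mk q x ≠ 0 := fun h => hxq (Ideal.Quotient.eq_zero_iff_mem.1 h)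
    refine Ideal.comap_ne_bot_of_algebraic_mem (I := Q.asIdeal.map (Ideal.Quotient.mk q)) hx0
      (Ideal.mem_map_of_mem _ hx) (halg q inferInstance hq0 _) (le_bot_iff.1 fun p hp => ?_)
    have hp' : ψ p ∈ (Q.asIdeal.map (Ideal.Quotient.mk q)).comap (Ideal.Quotient.mk q) := hp
    rw [Ideal.comap_map_of_surjective _ Ideal.Quotient.mk_surjective, ← RingHom.ker_eq_comap_bot,
      Ideal.mk_ker, sup_eq_left.2 hqQ] at hp'
    exact hQ'.le hp'
  have hmin : (⊥ : Ideal (MvPolynomial (Fin n) k)) ∈ minimalPrimes (MvPolynomial (Fin n) k) :=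
    ⟨⟨Ideal.isPrime_bot, le_rfl⟩, fun _ _ _ => bot_le⟩
  obtain ⟨P, hP, hfin⟩ := Groth.Agent.H75.Birat.exists_finite_away (A := MvPolynomial (Fin n) k) (B := B)
    (p := ⊥) (hp := Ideal.isPrime_bot) hmin hfib
  refine ⟨P, fun h => hP (by simp [h]), fun c hc => ?_⟩
  let A' := Localization.Away P
  let B' := Localization.Away (ψ P)
  let f : A' →+* B' := Localization.awayMap ψ P
  have hf : f.Finite := hfin A' B' f (IsLocalization.map_comp _)
  -- specialise at `c`
  let Jc : Ideal T := Ideal.span (Set.range fun l : Ω[T⁄k] →ₗ[T] T =>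
    l (KaehlerDifferential.D k T (∑ i, c i • a i)))
  let ev : MvPolynomial (Fin n) T →+* T ⧸ Jc :=
    (Ideal.Quotient.mk Jc).comp (eval fun i => algebraMap k T (c i))
  have hev : ∀ x ∈ J, ev x = 0 := by
    intro x hx
    refine (Ideal.span_le (I := RingHom.ker ev)).2 ?_ hx
    rintro _ ⟨l, rfl⟩
    show Ideal.Quotient.mk Jc (eval (fun i => algebraMap k T (c i)) (gl l)) = 0
    refine Ideal.Quotient.eq_zero_iff_mem.2 (Ideal.subset_span ⟨l, ?_⟩)
    simp only [gl, map_sum, map_mul, eval_X, eval_C, map_smul, Derivation.map_smul]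
    exact Finset.sum_congr rfl fun i _ => by rw [LinearMap.map_smul_of_tower, Algebra.smul_def]
  let evB : B →+* T ⧸ Jc := Ideal.Quotient.lift J ev hev
  have hψ : ∀ p, evB (ψ p) = algebraMap k (T ⧸ Jc) (eval c p) := by
    intro p
    show Ideal.Quotient.mk Jc (eval (fun i => algebraMap k T (c i)) (map (algebraMap k T) p)) = _
    induction p using MvPolynomial.induction_on with
    | C r => rw [map_C, eval_C, eval_C]; rfl
    | add p q hp hq => simp only [map_add, hp, hq]
    | mul_X p j hp => simp only [map_mul, map_X, eval_X, hp]; rfl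
  let evk : A' →+* k := IsLocalization.Away.lift P (g := eval c) (IsUnit.mk0 _ hc)
  let evB' : B' →+* T ⧸ Jc := IsLocalization.Away.lift (ψ P) (g := evB) (by
    rw [hψ]; exact (IsUnit.mk0 _ hc).map _)
  have hcomm : ∀ x, evB' (f x) = algebraMap k (T ⧸ Jc) (evk x) := by
    refine RingHom.congr_fun (f := evB'.comp f) (g := (algebraMap k (T ⧸ Jc)).comp evk) ?_
    refine IsLocalization.ringHom_ext (Submonoid.powers P) (RingHom.ext fun p => ?_)
    simp only [RingHom.comp_apply, evk, evB', f, Localization.awayMap, IsLocalization.Away.map,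
      IsLocalization.map_eq, IsLocalization.Away.lift_eq]
    exact (IsLocalization.Away.lift_eq _ _ _).trans (hψ p)
  letI := f.toAlgebra
  obtain ⟨Y, hY⟩ := (hf : Module.Finite A' B').fg_top
  have hsurj : Function.Surjective evB' := by
    intro z
    obtain ⟨t, rfl⟩ := Ideal.Quotient.mk_surjective z
    refine ⟨algebraMap B B' (Ideal.Quotient.mk J (C t)), ?_⟩
    rw [IsLocalization.Away.lift_eq]
    show Ideal.Quotient.mk Jc (eval _ (C t)) = _
    rw [eval_C]
  haveI : Module.Finite k (T ⧸ Jc) := by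
    refine ⟨⟨Y.image evB', ?_⟩⟩
    rw [← top_le_iff]
    rintro z -
    obtain ⟨y, rfl⟩ := hsurj z
    have hy : y ∈ Submodule.span A' (Y : Set B') := by rw [hY]; trivial
    induction hy using Submodule.span_induction with
    | mem x hx => exact Submodule.subset_span (by simpa using ⟨x, hx, rfl⟩)
    | zero => rw [map_zero]; exact zero_mem _
    | add x y _ _ hx hy => rw [map_add]; exact add_mem hx hy
    | smul r x _ hx =>
      rw [show r • x = f r * x from rfl, map_mul, hcomm, ← Algebra.smul_def]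
      exact Submodule.smul_mem _ _ hx
  haveI : IsArtinianRing (T ⧸ Jc) := IsArtinianRing.of_finite k _
  have key : ∀ q : PrimeSpectrum T, (∀ l : Ω[T⁄k] →ₗ[T] T,
      l (KaehlerDifferential.D k T (∑ i, c i • a i)) ∈ q.asIdeal) →
      ∃ q' : PrimeSpectrum (T ⧸ Jc), PrimeSpectrum.comap (Ideal.Quotient.mk Jc) q' = q := by
    intro q hq
    have hle : Jc ≤ q.asIdeal := Ideal.span_le.2 (by rintro _ ⟨l, rfl⟩; exact hq l)
    have : q ∈ Set.range (PrimeSpectrum.comap (Ideal.Quotient.mk Jc)) := by
      rw [range_comap_of_surjective _ _ Ideal.Quotient.mk_surjective, Ideal.mk_ker]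
      exact hle
    exact this
  refine ⟨(Set.finite_range (PrimeSpectrum.comap (Ideal.Quotient.mk Jc))).subset fun q hq => key q hq, fun q hq => ?_⟩
  obtain ⟨q', rfl⟩ := key q hq
  haveI : q'.asIdeal.IsMaximal := IsArtinianRing.isMaximal_of_isPrime q'.asIdeal
  exact Ideal.comap_isMaximal_of_surjective _ Ideal.Quotient.mk_surjective

end Groth.Agent.H19.MovU.Crit
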