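import Mathlib
import Groth.Agent.H19.MovU.Alg
import Groth.Agent.H19.MovU.Crit
import Groth.Agent.Lib.Smoothing.Linearize

/-!
# A function with finitely many critical points
-/

set_option autoImplicit false
set_option linter.style.haveILetI false

universe u

open TensorProduct

namespace Groth.Agent.H19.MovU.GmMap

variable {k : Type u} [Field k] {A : Type u} [CommRing A] [Algebra k A] [Algebra.FiniteType k A]

theorem span_D_away (h : A) {n : ℕ} (a : Fin n → A) (ha : Algebra.adjoin k (Set.range a) = ⊤) :
    Submodule.span (Localization.Away h) (Set.range fun i =>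
      KaehlerDifferential.D k (Localization.Away h) (algebraMap A (Localization.Away h) (a i))) = ⊤ := by
  let T := Localization.Away h
  set N := Submodule.span T (Set.range fun i =>
    KaehlerDifferential.D k T (algebraMap A T (a i)))
  let P : Derivation k T (Ω[T⁄k] ⧸ N) := N.mkQ.compDer (KaehlerDifferential.D k T)
  have hA : ∀ x : A, P (algebraMap A T x) = 0 := by
    intro x
    have hx : x ∈ Algebra.adjoin k (Set.range a) := by rw [ha]; trivial
    induction hx using Algebra.adjoin_induction with
    | mem y hy =>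
      obtain ⟨i, rfl⟩ := hy
      exact (Submodule.Quotient.mk_eq_zero N).2 (Submodule.subset_span ⟨i, rfl⟩)
    | algebraMap c => rw [← IsScalarTower.algebraMap_apply k A T]; exact P.map_algebraMap c
    | add y z _ _ hy hz => rw [map_add, map_add, hy, hz, add_zero]
    | mul y z _ _ hy hz => rw [map_mul, Derivation.leibniz, hy, hz, smul_zero, smul_zero, add_zero]
  have hT : ∀ t : T, P t = 0 := by
    intro t
    obtain ⟨⟨x, s⟩, hs⟩ := IsLocalization.surj (Submonoid.powers h) t
    have h2 := congrArg P hs
    rw [Derivation.leibniz, hA, hA, smul_zero, zero_add] at h2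
    exact (IsLocalization.map_units T s).smul_eq_zero.1 h2
  rw [eq_top_iff, ← KaehlerDifferential.span_range_derivation k T, Submodule.span_le]
  rintro _ ⟨t, rfl⟩
  exact (Submodule.Quotient.mk_eq_zero N).1 (hT t)

/-- If all functionals of the differentials vanish at a prime of a smooth algebra, the point is isolated. -/
theorem isOpen_singleton {T : Type u} [CommRing T] [Algebra k T] [Algebra.Smooth k T]
    (q : PrimeSpectrum T) (hq : ∀ (l : Ω[T⁄k] →ₗ[T] T) (ω : Ω[T⁄k]), l ω ∈ q.asIdeal) :
    IsOpen ({q} : Set (PrimeSpectrum T)) := by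
  classical
  haveI : Algebra.FiniteType k T := inferInstance
  obtain ⟨m, π, hπ⟩ := Module.Finite.exists_fin' T Ω[T⁄k]
  obtain ⟨sec, hsec⟩ := Module.projective_lifting_property π LinearMap.id hπ
  have hle : (⊤ : Submodule T Ω[T⁄k]) ≤ q.asIdeal • ⊤ := by
    intro ω _
    have h1 : π (sec ω) = ω := LinearMap.congr_fun hsec ω
    rw [← h1, pi_eq_sum_univ' (sec ω), map_sum]
    refine Submodule.sum_mem _ fun s _ => ?_
    rw [map_smul]
    exact Submodule.smul_mem_smul (hq ((LinearMap.proj s) ∘ₗ sec) ω) trivial
  obtain ⟨r, hr, hr0⟩ := Submodule.exists_sub_one_mem_and_smul_eq_zero_of_fg_of_le_smul q.asIdeal ⊤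
    Module.Finite.fg_top hle
  have hrq : r ∉ q.asIdeal := fun h => q.isPrime.ne_top ((Ideal.eq_top_iff_one _).2 (by
    have := q.asIdeal.sub_mem h hr; simpa using this))
  let T' := Localization.Away r
  haveI : Algebra.FinitePresentation T T' := IsLocalization.Away.finitePresentation r
  haveI : Algebra.FiniteType k T' := Algebra.FiniteType.trans (inferInstance : Algebra.FiniteType k T) inferInstance
  haveI : Subsingleton Ω[T'⁄k] := by
    refine subsingleton_of_forall_eq 0 fun ω => ?_
    have hω : ω ∈ Submodule.span T' (Set.range <| KaehlerDifferential.map k k T T' ∘ KaehlerDifferential.D k T) := by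
      rw [KaehlerDifferential.span_range_map_derivation_of_isLocalization (R := k) (S := T) (T := T') (Submonoid.powers r)]; trivial
    induction hω using Submodule.span_induction with
    | mem x hx =>
      obtain ⟨t, rfl⟩ := hx
      refine (IsLocalization.Away.algebraMap_isUnit (S := T') r).smul_eq_zero.1 ?_
      rw [algebraMap_smul, Function.comp_apply, ← map_smul, hr0 _ trivial, map_zero]
    | zero => rfl
    | add x y _ _ hx hy => rw [hx, hy, add_zero]
    | smul s x _ hx => rw [hx, smul_zero]
  haveI : Algebra.FormallyUnramified k T' := (Algebra.formallyUnramified_iff k T').2 ‹_›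
  haveI : Module.Finite k T' := Algebra.FormallyUnramified.finite_of_free k T'
  haveI : IsArtinianRing T' := IsArtinianRing.of_finite k T'
  obtain ⟨q', hq'⟩ : q ∈ Set.range (PrimeSpectrum.comap (algebraMap T T')) := by
    rw [PrimeSpectrum.localization_away_comap_range T' r]; exact hrq
  rw [← hq', ← Set.image_singleton]
  exact (PrimeSpectrum.localization_away_isOpenEmbedding T' r).isOpenMap _ (isOpen_discrete _)

variable [Infinite k] {ι : Type} [Finite ι] (h : ι → A)

theorem exists_param (hsm : ∀ j, Algebra.Smooth k (Localization.Away (h j))) (p : PrimeSpectrum A)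
    (hp : ∀ j, h j ∉ p.asIdeal → ¬ IsOpen ({p} : Set (PrimeSpectrum A))) :
    ∃ e g : A, e ∉ p.asIdeal ∧ g ∣ e ∧ ∀ (q : PrimeSpectrum A) (j : ι), e ∉ q.asIdeal → h j ∉ q.asIdeal →
      ∃ m : A, m ∉ q.asIdeal ∧ (∃ g₁, m = g₁ * e) ∧
        ((algebraMap A (Localization.Away m)).comp (Polynomial.aeval (R := k) g).toRingHom).Smooth := by
  classical
  haveI : Algebra.FinitePresentation k A := Algebra.FinitePresentation.of_finiteType.mp inferInstance
  haveI := hsm
  obtain ⟨G, hG⟩ := (inferInstance : Algebra.FiniteType k A).out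
  obtain ⟨n, a, ha⟩ : ∃ (n : ℕ) (a : Fin n → A), Algebra.adjoin k (Set.range a) = ⊤ :=
    ⟨G.card, fun i => G.equivFin.symm i, by
      rw [← hG]; congr 1; ext x
      exact ⟨fun ⟨i, hi⟩ => hi ▸ (G.equivFin.symm i).2, fun hx => ⟨G.equivFin ⟨x, hx⟩, by simp⟩⟩⟩
  let aT : ∀ j, Fin n → Localization.Away (h j) := fun j i => algebraMap A _ (a i)
  choose P hP hPc using fun j => Crit.exists_general (k := k) (aT j) (span_D_away (h j) a ha)
  have hQ : ∀ j, ∃ Q : MvPolynomial (Fin n) k, Q ≠ 0 ∧ ∀ c, MvPolynomial.eval c Q ≠ 0 →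
      ∀ q : PrimeSpectrum (Localization.Away (h j)), PrimeSpectrum.comap (algebraMap A _) q = p →
        ∃ l : Ω[(Localization.Away (h j))⁄k] →ₗ[Localization.Away (h j)] Localization.Away (h j),
          l (KaehlerDifferential.D k _ (∑ i, c i • aT j i)) ∉ q.asIdeal := by
    intro j
    by_cases hj : h j ∈ p.asIdeal
    · refine ⟨1, one_ne_zero, fun c _ q hq => absurd hj ?_⟩
      have : p ∈ Set.range (PrimeSpectrum.comap (algebraMap A (Localization.Away (h j)))) := ⟨q, hq⟩
      rwa [PrimeSpectrum.localization_away_comap_range _ (h j)] at this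
    have : p ∈ Set.range (PrimeSpectrum.comap (algebraMap A (Localization.Away (h j)))) := by
      rw [PrimeSpectrum.localization_away_comap_range _ (h j)]; exact hj
    obtain ⟨q₀, hq₀⟩ := this
    let W : Submodule k (Fin n → k) :=
      { carrier := {c | ∀ l : Ω[(Localization.Away (h j))⁄k] →ₗ[Localization.Away (h j)] Localization.Away (h j),
          l (KaehlerDifferential.D k _ (∑ i, c i • aT j i)) ∈ q₀.asIdeal}
        zero_mem' := fun l => by simp
        add_mem' := fun {c c'} hc hc' l => by
          simp only [Pi.add_apply, add_smul, Finset.sum_add_distrib, map_add]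
          exact add_mem (hc l) (hc' l)
        smul_mem' := fun r c hc l => by
          simp only [Pi.smul_apply, smul_assoc, ← Finset.smul_sum, Derivation.map_smul, LinearMap.map_smul_of_tower]
          rw [Algebra.smul_def]
          exact q₀.asIdeal.mul_mem_left _ (hc l) }
    have hW : W ≠ ⊤ := by
      intro hW
      refine hp j hj ?_
      have h0 : ∀ i (l : Ω[(Localization.Away (h j))⁄k] →ₗ[Localization.Away (h j)] Localization.Away (h j)),
          l (KaehlerDifferential.D k _ (aT j i)) ∈ q₀.asIdeal := by
        intro i l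
        have := (show (Pi.single i 1 : Fin n → k) ∈ W from hW ▸ trivial) l
        simpa [Pi.single_apply] using this
      have hall : ∀ (l : Ω[(Localization.Away (h j))⁄k] →ₗ[Localization.Away (h j)] Localization.Away (h j))
          (ω : Ω[(Localization.Away (h j))⁄k]), l ω ∈ q₀.asIdeal := by
        intro l ω
        have hle : Submodule.span (Localization.Away (h j)) (Set.range fun i =>
            KaehlerDifferential.D k _ (aT j i)) ≤ Submodule.comap l q₀.asIdeal :=
          Submodule.span_le.2 (by rintro _ ⟨i, rfl⟩; exact h0 i l)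
        rw [span_D_away (h j) a ha] at hle
        exact hle trivial
      rw [← hq₀, ← Set.image_singleton]
      exact (PrimeSpectrum.localization_away_isOpenEmbedding (Localization.Away (h j)) (h j)).isOpenMap _
        (isOpen_singleton q₀ hall)
    obtain ⟨φ, hφ, hWφ⟩ := Submodule.exists_le_ker_of_lt_top W (lt_top_iff_ne_top.2 hW)
    refine ⟨∑ i, MvPolynomial.C (φ (Pi.single i 1)) * MvPolynomial.X i, ?_, fun c hc q hq => ?_⟩
    · intro h0
      refine hφ (LinearMap.pi_ext' fun i => LinearMap.ext_ring ?_)
      have := congrArg (MvPolynomial.eval (Pi.single i (1 : k))) h0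
      simpa [Pi.single_apply] using this
    · have hqq : q = q₀ := PrimeSpectrum.localization_comap_injective _ (Submonoid.powers (h j)) (hq.trans hq₀.symm)
      subst hqq
      by_contra hcon
      push Not at hcon
      refine hc ?_
      have h0 : φ c = 0 := hWφ (show c ∈ W from hcon)
      rw [pi_eq_sum_univ' c, map_sum] at h0
      simpa [mul_comm] using h0
  choose Q hQne hQc using hQ
  haveI : Fintype ι := Fintype.ofFinite ι
  obtain ⟨c, hc⟩ : ∃ c, MvPolynomial.eval c (∏ j, P j * Q j) ≠ 0 := by
    by_contra hcon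
    push Not at hcon
    exact Finset.prod_ne_zero_iff.2 (fun j _ => mul_ne_zero (hP j) (hQne j))
      (MvPolynomial.funext fun c => (hcon c).trans (map_zero _).symm)
  rw [map_prod, Finset.prod_ne_zero_iff] at hc
  simp only [map_mul, mul_ne_zero_iff] at hc
  let g₀ : A := ∑ i, c i • a i
  have hg₀ : ∀ j, algebraMap A (Localization.Away (h j)) g₀ = ∑ i, c i • aT j i := fun j => by
    simp [g₀, aT, map_sum, Algebra.smul_def, ← IsScalarTower.algebraMap_apply]
  obtain ⟨c₀, hc₀⟩ : ∃ c₀ : k, g₀ + algebraMap k A c₀ ∉ p.asIdeal := by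
    by_contra hcon
    push Not at hcon
    have := p.asIdeal.sub_mem (hcon 1) (hcon 0)
    rw [map_zero, add_zero, add_sub_cancel_left, map_one] at this
    exact p.isPrime.ne_top ((Ideal.eq_top_iff_one _).2 this)
  let g : A := g₀ + algebraMap k A c₀
  let Bad : ∀ j, Set (PrimeSpectrum (Localization.Away (h j))) := fun j =>
    {q | ∀ l : Ω[(Localization.Away (h j))⁄k] →ₗ[Localization.Away (h j)] Localization.Away (h j),
      l (KaehlerDifferential.D k _ (∑ i, c i • aT j i)) ∈ q.asIdeal}
  let F : Set (PrimeSpectrum A) := ⋃ j, PrimeSpectrum.comap (algebraMap A _) '' Bad j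
  have hF : F.Finite := Set.finite_iUnion fun j => ((hPc j c (hc j (Finset.mem_univ j)).1).1).image _
  haveI : IsJacobsonRing A := isJacobsonRing_of_finiteType (A := k) (B := A)
  have hFp : ∀ q ∈ F, ∃ f, f ∈ q.asIdeal ∧ f ∉ p.asIdeal := by
    intro q hq
    obtain ⟨j, q', hq', rfl⟩ := Set.mem_iUnion.1 hq
    have hmax := (hPc j c (hc j (Finset.mem_univ j)).1).2 q' hq'
    have hmaxA := ((IsLocalization.isMaximal_iff_isMaximal_disjoint (Localization.Away (h j)) (h j) q'.asIdeal).1 hmax).1
    by_contra hcon
    push Not at hcon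
    have heq : PrimeSpectrum.comap (algebraMap A _) q' = p :=
      PrimeSpectrum.ext (hmaxA.eq_of_le p.isPrime.ne_top hcon)
    obtain ⟨l, hl⟩ := hQc j c (hc j (Finset.mem_univ j)).2 q' heq
    exact hl (hq' l)
  choose f hfq hfp using hFp
  let f₀ : A := ∏ q ∈ hF.toFinset.attach, f q.1 (hF.mem_toFinset.1 q.2)
  have hf₀ : f₀ ∉ p.asIdeal := fun hmem => by
    obtain ⟨q, -, hq⟩ := (Ideal.IsPrime.prod_mem_iff (hp := p.isPrime)).1 hmem
    exact hfp _ _ hq
  refine ⟨f₀ * g, g, fun hmem => (p.isPrime.mem_or_mem hmem).elim hf₀ hc₀, Dvd.intro_left f₀ rfl, fun q j he hjq => ?_⟩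
  have hqF : q ∉ F := fun hq => he (q.asIdeal.mul_mem_right _
    (Ideal.mem_of_dvd _ (Finset.dvd_prod_of_mem (fun q : {x // x ∈ hF.toFinset} => f q.1 (hF.mem_toFinset.1 q.2))
      (Finset.mem_attach _ ⟨q, hF.mem_toFinset.2 hq⟩)) (hfq q hq)))
  let S := Localization.AtPrime q.asIdeal
  let T := Localization.Away (h j)
  let ν : T →ₐ[A] S := IsLocalization.liftAlgHom (M := Submonoid.powers (h j)) (f := Algebra.ofId A S) fun y =>
    IsLocalization.map_units S (⟨y, fun hy => by
      obtain ⟨N, hN⟩ := y.2
      exact hjq (q.isPrime.mem_of_pow_mem N (show h j ^ N ∈ q.asIdeal by rw [show h j ^ N = y from hN]; exact hy))⟩ : q.asIdeal.primeCompl)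
  letI : Algebra T S := ν.toRingHom.toAlgebra
  haveI : IsScalarTower A T S := IsScalarTower.of_algebraMap_eq fun x => (ν.commutes x).symm
  haveI : IsScalarTower k T S := IsScalarTower.of_algebraMap_eq fun x => by
    rw [IsScalarTower.algebraMap_apply k A S, IsScalarTower.algebraMap_apply k A T, ← IsScalarTower.algebraMap_apply A T S]
  haveI : Algebra.FormallyEtale A S := Algebra.FormallyEtale.of_isLocalization q.asIdeal.primeCompl
  haveI : Algebra.FormallyEtale A T := Algebra.FormallyEtale.of_isLocalization (Submonoid.powers (h j))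
  haveI : Algebra.FormallyEtale T S := Algebra.FormallyEtale.of_restrictScalars (R := A)
  haveI : Algebra.IsSmoothAt k q.asIdeal :=
    Groth.Agent.Lib.Smoothing.Linearize.isSmoothAt_of_smooth_away (h := h j) _ hjq
  haveI : Algebra.EssFiniteType k S :=
    haveI : Algebra.EssFiniteType A S := Algebra.EssFiniteType.of_isLocalization _ q.asIdeal.primeCompl
    Algebra.EssFiniteType.comp k A _
  let qT : PrimeSpectrum T := ⟨(IsLocalRing.maximalIdeal S).comap (algebraMap T S), inferInstance⟩
  have hqT : PrimeSpectrum.comap (algebraMap A T) qT = q := PrimeSpectrum.ext (by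
    show ((IsLocalRing.maximalIdeal S).comap (algebraMap T S)).comap (algebraMap A T) = q.asIdeal
    rw [Ideal.comap_comap, ← IsScalarTower.algebraMap_eq]
    exact IsLocalization.AtPrime.under_maximalIdeal S q.asIdeal)
  obtain ⟨l, hl⟩ : ∃ l : Ω[T⁄k] →ₗ[T] T, l (KaehlerDifferential.D k T (∑ i, c i • aT j i)) ∉ qT.asIdeal := by
    by_contra hcon
    push Not at hcon
    exact hqF (Set.mem_iUnion.2 ⟨j, qT, hcon, hqT⟩)
  algebraize [((Polynomial.aeval (R := k) g) : Polynomial k →ₐ[k] A).toRingHom]
  haveI : IsScalarTower k (Polynomial k) A := IsScalarTower.of_algebraMap_eq fun r => ((Polynomial.aeval (R := k) g).commutes r).symm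
  haveI : IsScalarTower k (Polynomial k) S := IsScalarTower.of_algebraMap_eq fun r => by
    rw [IsScalarTower.algebraMap_apply (Polynomial k) A S, ← IsScalarTower.algebraMap_apply k (Polynomial k) A,
      ← IsScalarTower.algebraMap_apply]
  haveI : Algebra.FiniteType (Polynomial k) A := Algebra.FiniteType.of_restrictScalars_finiteType k _ _
  haveI : Algebra.FinitePresentation (Polynomial k) A := Algebra.FinitePresentation.of_finiteType.mp inferInstance
  haveI : Algebra.IsSmoothAt (Polynomial k) q.asIdeal := by
    refine Groth.Agent.H19.MovU.Alg.formallySmooth_polynomial k S fun h0 => hl ?_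
    let l' : Ω[S⁄k] →ₗ[S] S :=
      (KaehlerDifferential.isBaseChange_of_formallyEtale k T S).lift ((Algebra.linearMap T S) ∘ₗ l)
    have hl' : l' (KaehlerDifferential.D k S (algebraMap (Polynomial k) S Polynomial.X)) =
        algebraMap T S (l (KaehlerDifferential.D k T (∑ i, c i • aT j i))) := by
      rw [IsScalarTower.algebraMap_apply (Polynomial k) A S, show algebraMap (Polynomial k) A Polynomial.X = g from Polynomial.aeval_X _,
        map_add, map_add, IsScalarTower.algebraMap_apply A T S g₀, hg₀, ← IsScalarTower.algebraMap_apply k A S,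
        Derivation.map_algebraMap, add_zero, ← KaehlerDifferential.map_D k k T S]
      exact IsBaseChange.lift_eq _ _ _
    have h1 := congrArg (TensorProduct.rid S (IsLocalRing.ResidueField S) ∘ l'.baseChange (IsLocalRing.ResidueField S)) h0
    simp only [Function.comp_apply, LinearMap.baseChange_tmul, TensorProduct.rid_tmul, map_zero, hl'] at h1
    rw [Algebra.smul_def, mul_one] at h1
    exact (IsLocalRing.residue_eq_zero_iff _).1 h1
  obtain ⟨m₁, hm₁, hs₁⟩ := Algebra.IsSmoothAt.exists_notMem_smooth (R := Polynomial k) q.asIdeal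
  refine ⟨m₁ * (f₀ * g), fun hmem => (q.isPrime.mem_or_mem hmem).elim hm₁ he, ⟨m₁, rfl⟩, ?_⟩
  have hs : Algebra.Smooth (Polynomial k) (Localization.Away (m₁ * (f₀ * g))) :=
    Algebra.basicOpen_subset_smoothLocus_iff_smooth.1
      (fun y hy => Algebra.basicOpen_subset_smoothLocus_iff_smooth.2 hs₁ (PrimeSpectrum.basicOpen_mul_le_left m₁ _ hy))
  rw [show (algebraMap A (Localization.Away (m₁ * (f₀ * g)))).comp (Polynomial.aeval (R := k) g).toRingHom =
    algebraMap (Polynomial k) (Localization.Away (m₁ * (f₀ * g))) from (IsScalarTower.algebraMap_eq (Polynomial k) A _).symm]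
  exact RingHom.smooth_algebraMap.2 hs

/-- Smoothness over the multiplicative group from smoothness over the affine line. -/
theorem smooth_laurent {R : Type u} [CommRing R] (φ : LaurentPolynomial k →+* R)
    (hφ : (φ.comp (algebraMap (Polynomial k) (LaurentPolynomial k))).Smooth) : φ.Smooth := by
  algebraize [φ, φ.comp (algebraMap (Polynomial k) (LaurentPolynomial k))]
  haveI : IsScalarTower (Polynomial k) (LaurentPolynomial k) R := IsScalarTower.of_algebraMap_eq fun _ => rfl
  haveI : Algebra.FormallySmooth (LaurentPolynomial k) R :=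
    Algebra.FormallySmooth.localization_base (R := Polynomial k) (Submonoid.powers (Polynomial.X : Polynomial k))
  haveI : Algebra.FinitePresentation (Polynomial k) (LaurentPolynomial k) :=
    IsLocalization.Away.finitePresentation (Polynomial.X : Polynomial k)
  haveI : Algebra.FinitePresentation (LaurentPolynomial k) R :=
    Algebra.FinitePresentation.of_restrict_scalars_finitePresentation (Polynomial k) _ _
  exact ⟨inferInstance, inferInstance⟩

end Groth.Agent.H19.MovU.GmMap
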